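import Cfsg.Agent.H985.VZ.Rep
import Cfsg.Agent.H150.Toral.Mackey
import Cfsg.Agent.OddOrderCharacters.IndRes
import Cfsg.Agent.OddOrderCharacters.PivotCoherence

/-!
# S4842, toolkit section 6: the value at an elliptic element, abstract part (helper898)

* `pc H` : the permutation character on the cosets of `H`; `pc_inner`, `pc_rep`, `pc_zero`;
* `gram` : the certificate theorem.
-/

set_option autoImplicit false
set_option linter.unusedSectionVars false

open Cfsg

namespace Cfsg.Agent.H898.VZ

open Cfsg.Agent.H985.VZ Cfsg.Agent.Characters.Core Module Cfsg.Agent.OddOrderCharacters.PivotCoherence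
open scoped ComplexConjugate

universe u v

section perm

variable {G : Type u} [Group G] [Fintype G]

/-- the permutation character on the cosets of `H` -/
noncomputable def pc (H : Subgroup G) : G → ℂ := indFun H (fun x => (((1 : H →* ℂˣ) x : ℂˣ) : ℂ))

theorem pc_isCharacter (H : Subgroup G) : IsCharacter G (pc H) := by
  refine Cfsg.Agent.S0148.result H _ ?_
  have h1 : (fun x : H => (((1 : H →* ℂˣ) x : ℂˣ) : ℂ)) = 1 := by
    funext x
    simp
  rw [h1]
  exact isCharacter_one

theorem pc_inner (A B : Subgroup G) :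
    classInner (pc A) (pc B) = (Nat.card (DoubleCoset.Quotient (A : Set G) (B : Set G)) : ℂ) := by
  have : Finite (DoubleCoset.Quotient (A : Set G) (B : Set G)) := by
    unfold DoubleCoset.Quotient
    infer_instance
  have h1 := Cfsg.Agent.H150.Toral.mackey A B (fun i : DoubleCoset.Quotient (A : Set G) (B : Set G) => i.out)
    (fun g => by
      refine ⟨DoubleCoset.mk A B g, ?_⟩
      obtain ⟨a, b, ha, hb, e⟩ := DoubleCoset.mk_out_eq_mul A B g
      refine ⟨a⁻¹, inv_mem ha, b⁻¹, inv_mem hb, ?_⟩
      rw [e]
      group)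
    (fun i j a ha b hb e => by
      have h1 : DoubleCoset.mk A B i.out = DoubleCoset.mk A B j.out := by
        rw [DoubleCoset.eq]
        exact ⟨a, ha, b, hb, e⟩
      rwa [DoubleCoset.out_eq', DoubleCoset.out_eq'] at h1) 1 1
  unfold pc
  rw [h1]
  congr 1
  refine Nat.card_congr (Equiv.subtypeUnivEquiv fun i => ?_)
  intro a b _
  rfl

/-- Frobenius reciprocity for the permutation characters -/
theorem pc_rep {V : Type v} [AddCommGroup V] [Module ℂ V] [FiniteDimensional ℂ V] (ρ : Representation ℂ G V)
    (H : Subgroup G) : classInner (pc H) ρ.character = (finrank ℂ (fx ρ H) : ℂ) := by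
  classical
  have := Fintype.ofFinite H
  unfold pc
  rw [Cfsg.Agent.S0150.classInner_indFun H _ _ (fun g h => isCharacter_isClassFunction (isCharacter_of_rep ρ) g h)]
  have h1 := trace_el_eq ρ H 1
  rw [eig_one] at h1
  have h2 : (finrank ℂ (fx ρ H) : ℂ) = conj (finrank ℂ (fx ρ H) : ℂ) := by simp
  rw [h2, h1, classInner_def, map_mul, map_sum, map_inv₀, Complex.conj_natCast]
  congr 1
  refine Finset.sum_congr rfl fun x _ => ?_
  simp

theorem pc_zero {H : Subgroup G} {t : G} (h : ∀ x : G, x * t * x⁻¹ ∉ H) : pc H t = 0 := by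
  unfold pc
  rw [indFun_apply, Finset.sum_eq_zero, mul_zero]
  intro x _
  refine extendByZero_of_notMem _ _ ?_
  have := h x⁻¹
  rwa [inv_inv] at this

theorem pc_top (t : G) : pc (⊤ : Subgroup G) t = 1 := by
  unfold pc
  rw [indFun_apply, Finset.sum_congr rfl (g := fun _ => (1 : ℂ)) fun x _ => by
    rw [extendByZero_of_mem _ _ (Subgroup.mem_top _)]; rfl]
  rw [Finset.sum_const, Finset.card_univ, nsmul_eq_mul, mul_one, ← Nat.card_eq_fintype_card,
    Nat.card_congr (Equiv.subtypeUnivEquiv fun x : G => Subgroup.mem_top x)]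
  exact inv_mul_cancel₀ (by exact_mod_cast Nat.card_pos.ne')

end perm

section gram

variable {G : Type u} [Group G] [Fintype G] {ι κ : Type*} [Fintype ι] [DecidableEq ι] [Fintype κ] [DecidableEq κ]
  {P : ι → Subgroup G}

/-- the integral combinations -/
noncomputable def psi (P : ι → Subgroup G) (m : ι → ℤ) : G → ℂ := ∑ i, m i • pc (P i)

theorem psi_gen (m : ι → ℤ) : IsGeneralizedCharacter G (psi P m) :=
  isGeneralized_sum _ fun _ _ => isGeneralized_zsmul _ (isGeneralized_of_isCharacter (pc_isCharacter _))

theorem psi_inner_left (m : ι → ℤ) (f : G → ℂ) : classInner (psi P m) f = ∑ i, (m i : ℂ) * classInner (pc (P i)) f := by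
  unfold psi
  rw [classInner_sum_left]
  refine Finset.sum_congr rfl fun i _ => ?_
  rw [← Int.cast_smul_eq_zsmul ℂ, classInner_smul_left]

theorem psi_inner_right (m : ι → ℤ) (f : G → ℂ) : classInner f (psi P m) = ∑ i, (m i : ℂ) * classInner f (pc (P i)) := by
  unfold psi
  rw [classInner_sum_right]
  refine Finset.sum_congr rfl fun i _ => ?_
  rw [← Int.cast_smul_eq_zsmul ℂ, classInner_smul_right]
  simp

theorem psi_apply (m : ι → ℤ) {t : G} {z : ι} (hz : P z = ⊤) (ht : ∀ i, i ≠ z → ∀ x, x * t * x⁻¹ ∉ P i) :
    psi P m t = m z := by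
  unfold psi
  rw [Finset.sum_apply, Finset.sum_eq_single z]
  · rw [Pi.smul_apply, hz, pc_top]
    simp
  · intro i _ hi
    rw [Pi.smul_apply, pc_zero (ht i hi), smul_zero]
  · intro h
    exact absurd (Finset.mem_univ z) h

variable {g : ι → ι → ℤ} {m : κ → ι → ℤ} {c : ι → ℚ} {o z : ι}

/-- an irreducible constituent of `pc (P o)` is plus or minus one of the combinations -/
theorem exists_psi (hg : ∀ i j, (Nat.card (DoubleCoset.Quotient (P i : Set G) (P j : Set G)) : ℤ) = g i j)
    (hm : ∀ a b, ∑ i, ∑ j, m a i * m b j * g i j = if a = b then 1 else 0)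
    (hms : ∑ a, (∑ i, m a i * g i o) ^ 2 = g o o) {χ : G → ℂ} (hχ : IsIrrCharacter G χ)
    (hne : classInner (pc (P o)) χ ≠ 0) : ∃ a, χ = psi P (m a) ∨ χ = -psi P (m a) := by
  have hpg : ∀ i j, classInner (pc (P i)) (pc (P j)) = (g i j : ℂ) := by
    intro i j
    rw [pc_inner, ← hg i j]
    push_cast
    rfl
  have hon : ∀ a b, classInner (psi P (m a)) (psi P (m b)) = if a = b then 1 else 0 := by
    intro a b
    rw [psi_inner_left]
    have h1 : ∑ i, (m a i : ℂ) * classInner (pc (P i)) (psi P (m b)) =
        ((∑ i, ∑ j, m a i * m b j * g i j : ℤ) : ℂ) := by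
      push_cast
      refine Finset.sum_congr rfl fun i _ => ?_
      rw [psi_inner_right, Finset.mul_sum]
      refine Finset.sum_congr rfl fun j _ => ?_
      rw [hpg]
      ring
    rw [h1, hm]
    split_ifs <;> simp
  have hirr : ∀ a, IsIrrCharacter G (psi P (m a)) ∨ IsIrrCharacter G (-psi P (m a)) := fun a =>
    isIrr_of_generalized (psi_gen _) (by rw [hon a a, if_pos rfl])
  by_contra hcon
  push Not at hcon
  -- `χ` is orthogonal to all of them
  have hort : ∀ a, classInner (psi P (m a)) χ = 0 := by
    intro a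
    rcases hirr a with h | h
    · exact classInner_irr_ne h hχ (hcon a).1.symm
    · have h1 := classInner_irr_ne h hχ fun e => (hcon a).2 e.symm
      rw [classInner_neg_left, neg_eq_zero] at h1
      exact h1
  have hop : ∀ a, classInner (psi P (m a)) (pc (P o)) = ((∑ i, m a i * g i o : ℤ) : ℂ) := by
    intro a
    rw [psi_inner_left]
    push_cast
    exact Finset.sum_congr rfl fun i _ => by rw [hpg]
  have hpo : ∀ a, classInner (pc (P o)) (psi P (m a)) = ((∑ i, m a i * g i o : ℤ) : ℂ) := by
    intro a
    rw [← classInner_conj_symm, hop]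
    simp
  -- the difference vanishes
  have hf : pc (P o) - ∑ a, ((∑ i, m a i * g i o : ℤ) : ℂ) • psi P (m a) = 0 := by
    apply classInner_self_eq_zero
    have e1 : classInner (∑ a, ((∑ i, m a i * g i o : ℤ) : ℂ) • psi P (m a)) (pc (P o)) = (g o o : ℂ) := by
      rw [classInner_sum_left, ← hms, Int.cast_sum]
      refine Finset.sum_congr rfl fun a _ => ?_
      rw [classInner_smul_left, hop, Int.cast_pow, pow_two]
    have e2 : classInner (pc (P o)) (∑ a, ((∑ i, m a i * g i o : ℤ) : ℂ) • psi P (m a)) = (g o o : ℂ) := by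
      rw [← classInner_conj_symm, e1]
      simp
    have e3 : classInner (∑ a, ((∑ i, m a i * g i o : ℤ) : ℂ) • psi P (m a))
        (∑ a, ((∑ i, m a i * g i o : ℤ) : ℂ) • psi P (m a)) = (g o o : ℂ) := by
      rw [classInner_sum_left, ← hms, Int.cast_sum]
      refine Finset.sum_congr rfl fun a _ => ?_
      rw [classInner_smul_left, classInner_sum_right, Finset.sum_eq_single a]
      · rw [classInner_smul_right, hon, if_pos rfl, Int.cast_pow, pow_two]
        simp
      · intro b _ hb
        rw [classInner_smul_right, hon, if_neg hb.symm, mul_zero]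
      · intro h
        exact absurd (Finset.mem_univ a) h
    rw [classInner_sub_left, classInner_sub_right, classInner_sub_right, hpg, e1, e2, e3]
    ring
  apply hne
  rw [sub_eq_zero.1 hf, classInner_sum_left]
  refine Finset.sum_eq_zero fun a _ => ?_
  rw [classInner_smul_left, hort, mul_zero]

/-- the value on a constituent of `pc (P o)` -/
theorem apply_irr (hz : P z = ⊤)
    (hg : ∀ i j, (Nat.card (DoubleCoset.Quotient (P i : Set G) (P j : Set G)) : ℤ) = g i j)
    (hm : ∀ a b, ∑ i, ∑ j, m a i * m b j * g i j = if a = b then 1 else 0)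
    (hms : ∑ a, (∑ i, m a i * g i o) ^ 2 = g o o)
    (hc : ∀ j, ∑ i, c i * g i j = if j = z then 1 else 0) {t : G} (ht : ∀ i, i ≠ z → ∀ x, x * t * x⁻¹ ∉ P i)
    {χ : G → ℂ} (hχ : IsIrrCharacter G χ) (hne : classInner (pc (P o)) χ ≠ 0) :
    χ t = ∑ i, (c i : ℂ) * classInner (pc (P i)) χ := by
  have hpg : ∀ i j, classInner (pc (P i)) (pc (P j)) = (g i j : ℂ) := by
    intro i j
    rw [pc_inner, ← hg i j]
    push_cast
    rfl
  have key : ∀ a, psi P (m a) t = ∑ i, (c i : ℂ) * classInner (pc (P i)) (psi P (m a)) := by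
    intro a
    rw [psi_apply (m a) hz ht]
    have h1 : ∑ i, (c i : ℂ) * classInner (pc (P i)) (psi P (m a)) = ∑ j, (m a j : ℂ) * ((∑ i, c i * g i j : ℚ) : ℂ) := by
      have h2 : ∀ i, (c i : ℂ) * classInner (pc (P i)) (psi P (m a)) = ∑ j, (m a j : ℂ) * ((c i : ℂ) * (g i j : ℂ)) := by
        intro i
        rw [psi_inner_right, Finset.mul_sum]
        refine Finset.sum_congr rfl fun j _ => ?_
        rw [hpg]
        ring
      rw [Finset.sum_congr rfl fun i _ => h2 i, Finset.sum_comm]
      refine Finset.sum_congr rfl fun j _ => ?_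
      rw [← Finset.mul_sum]
      push_cast
      rfl
    rw [h1, Finset.sum_eq_single z]
    · rw [hc, if_pos rfl]
      simp
    · intro j _ hj
      rw [hc, if_neg hj]
      simp
    · intro h
      exact absurd (Finset.mem_univ z) h
  obtain ⟨a, rfl | rfl⟩ := exists_psi hg hm hms hχ hne
  · exact key a
  · rw [Pi.neg_apply, key a, ← Finset.sum_neg_distrib]
    refine Finset.sum_congr rfl fun i _ => ?_
    rw [classInner_neg_right, mul_neg]

end gram

section rep

variable {G : Type u} [Group G] {V : Type v} [AddCommGroup V] [Module ℂ V] [FiniteDimensional ℂ V]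
  {σ : Representation ℂ G V}

/-- an additive function of the character is decided by the irreducible subrepresentations -/
theorem eq_of_irr [Finite G] (F F' : (G → ℂ) → ℂ) (hF : ∀ a b, F (a + b) = F a + F b)
    (hF' : ∀ a b, F' (a + b) = F' a + F' b) (k : ℕ) : ∀ U : Subrepresentation σ,
    finrank ℂ U.toSubmodule ≤ k → (∀ N : Subrepresentation σ, N.toSubmodule ≤ U.toSubmodule →
      N.toRepresentation.IsIrreducible → F N.toRepresentation.character = F' N.toRepresentation.character) →
      F U.toRepresentation.character = F' U.toRepresentation.character := by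
  classical
  have h00 : F 0 = 0 := by have := hF 0 0; rw [add_zero] at this; simpa using this
  have h01 : F' 0 = 0 := by have := hF' 0 0; rw [add_zero] at this; simpa using this
  have hzero : ∀ U : Subrepresentation σ, U.toSubmodule = ⊥ → F U.toRepresentation.character = F' U.toRepresentation.character := by
    intro U h1
    have h2 : Subsingleton U.toSubmodule := by
      rw [h1]
      infer_instance
    have h3 : U.toRepresentation.character = 0 := by
      funext t
      change LinearMap.trace ℂ _ (U.toRepresentation t) = 0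
      rw [show U.toRepresentation t = 0 from LinearMap.ext fun x => Subsingleton.elim _ _, map_zero]
    rw [h3, h00, h01]
  induction k with
  | zero =>
    intro U hU _
    exact hzero U (Submodule.finrank_eq_zero.1 (Nat.le_zero.1 hU))
  | succ k ih =>
    intro U hU hN
    by_cases h0 : U.toSubmodule = ⊥
    · exact hzero U h0
    · have : Nontrivial U.toSubmodule := Submodule.nontrivial_iff_ne_bot.mpr h0
      obtain ⟨U₁, hU₁⟩ := exists_irreducible_sub U.toRepresentation
      obtain ⟨U₂, hU₂⟩ := exists_isCompl_sub U₁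
      have hpos : 0 < finrank ℂ U₁.toSubmodule := by
        rw [Nat.pos_iff_ne_zero]
        intro h
        have h1 : U₁.toSubmodule = ⊥ := Submodule.finrank_eq_zero.1 h
        obtain ⟨a, b, hab⟩ := (hU₁.1 : Nontrivial (Subrepresentation U₁.toRepresentation))
        apply hab
        apply Subrepresentation.toSubmodule_injective
        have h2 : Subsingleton U₁.toSubmodule := by
          rw [h1]
          infer_instance
        ext x
        rw [Subsingleton.elim x 0]
        exact ⟨fun _ => Submodule.zero_mem _, fun _ => Submodule.zero_mem _⟩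
      have hsum := Submodule.finrank_add_eq_of_isCompl hU₂
      rw [character_eq_add_of_isCompl U₁ U₂ hU₂, hF, hF']
      have e1 : F U₁.toRepresentation.character = F' U₁.toRepresentation.character := by
        rw [Representation.char_iso (mapSubEquiv U U₁)]
        exact hN _ (mapSub_le U U₁) (isIrreducible_of_equiv (mapSubEquiv U U₁) hU₁)
      have e2 : F U₂.toRepresentation.character = F' U₂.toRepresentation.character := by
        rw [Representation.char_iso (mapSubEquiv U U₂)]
        refine ih _ ?_ fun N hNle hNi => hN N (le_trans hNle (mapSub_le U U₂)) hNi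
        rw [finrank_mapSub]
        omega
      rw [e1, e2]

/-- if the fixed vectors of `B` generate `V` then every irreducible subrepresentation has a fixed vector -/
theorem fx_ne_bot [Finite G] {B : Subgroup G} (hspan : ∀ N : Subrepresentation σ, fx σ B ≤ N.toSubmodule → N.toSubmodule = ⊤)
    (N : Subrepresentation σ) (hN : N.toRepresentation.IsIrreducible) : fx N.toRepresentation B ≠ ⊥ := by
  intro hb
  obtain ⟨N', hN'⟩ := exists_isCompl_sub N
  have h1 : fx σ B ≤ N'.toSubmodule := by
    intro v hv
    obtain ⟨a, ha, b, hb', e⟩ := Submodule.mem_sup.1 (show v ∈ N.toSubmodule ⊔ N'.toSubmodule by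
      rw [hN'.sup_eq_top]; exact Submodule.mem_top)
    have h2 : (⟨a, ha⟩ : N.toSubmodule) ∈ fx N.toRepresentation B := by
      intro x hx
      apply Subtype.ext
      change σ x a = a
      have h3 : σ x a - a ∈ N.toSubmodule := N.toSubmodule.sub_mem (N.apply_mem_toSubmodule x ha) ha
      have h4 : σ x a - a = b - σ x b := by
        have h5 := hv x hx
        rw [← e, map_add] at h5
        rw [sub_eq_sub_iff_add_eq_add, h5, add_comm]
      have h6 : σ x a - a ∈ N'.toSubmodule := by
        rw [h4]
        exact N'.toSubmodule.sub_mem hb' (N'.apply_mem_toSubmodule x hb')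
      exact sub_eq_zero.1 ((Submodule.disjoint_def.1 hN'.disjoint) _ h3 h6)
    rw [hb, Submodule.mem_bot] at h2
    have h3 : a = 0 := congrArg Subtype.val h2
    rw [← e, h3, zero_add]
    exact hb'
  have h2 := hspan N' h1
  have h3 : N.toSubmodule = ⊥ := by
    have := hN'.disjoint
    rw [h2] at this
    exact disjoint_top.1 this
  obtain ⟨a, b, hab⟩ := (hN.1 : Nontrivial (Subrepresentation N.toRepresentation))
  apply hab
  apply Subrepresentation.toSubmodule_injective
  have h4 : Subsingleton N.toSubmodule := by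
    rw [h3]
    infer_instance
  ext x
  rw [Subsingleton.elim x 0]
  exact ⟨fun _ => Submodule.zero_mem _, fun _ => Submodule.zero_mem _⟩

/-- **the certificate theorem** -/
theorem gram [Finite G] (σ : Representation ℂ G V) {ι κ : Type*} [Fintype ι] [DecidableEq ι] [Fintype κ] [DecidableEq κ]
    (P : ι → Subgroup G) (o z : ι) (hz : P z = ⊤)
    (hspan : ∀ N : Subrepresentation σ, fx σ (P o) ≤ N.toSubmodule → N.toSubmodule = ⊤) (g : ι → ι → ℤ)
    (hg : ∀ i j, (Nat.card (DoubleCoset.Quotient (P i : Set G) (P j : Set G)) : ℤ) = g i j) (m : κ → ι → ℤ)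
    (hm : ∀ a b, ∑ i, ∑ j, m a i * m b j * g i j = if a = b then 1 else 0)
    (hms : ∑ a, (∑ i, m a i * g i o) ^ 2 = g o o) (c : ι → ℚ)
    (hc : ∀ j, ∑ i, c i * g i j = if j = z then 1 else 0) {t : G} (ht : ∀ i, i ≠ z → ∀ x, x * t * x⁻¹ ∉ P i) :
    σ.character t = ∑ i, (c i : ℂ) * finrank ℂ (fx σ (P i)) := by
  classical
  let _ : Fintype G := Fintype.ofFinite G
  have h1 := eq_of_irr (σ := σ) (fun χ => χ t) (fun χ => ∑ i, (c i : ℂ) * classInner (pc (P i)) χ) (fun a b => rfl)
    (fun a b => by
      rw [← Finset.sum_add_distrib]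
      exact Finset.sum_congr rfl fun i _ => by rw [classInner_add_right, mul_add]) (finrank ℂ V) ⊤
    (Submodule.finrank_le _) fun N _ hN => by
      refine apply_irr hz hg hm hms hc ht (isIrrCharacter_of_rep _ hN) ?_
      rw [pc_rep]
      intro h
      exact fx_ne_bot hspan N hN (Submodule.finrank_eq_zero.1 (by exact_mod_cast h))
  have h2 : (⊤ : Subrepresentation σ).toRepresentation.character = σ.character := by
    refine Representation.char_iso (Representation.Equiv.mk Submodule.topEquiv fun g => ?_)
    ext x
    rfl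
  simp only [h2] at h1
  rw [h1]
  exact Finset.sum_congr rfl fun i _ => by rw [pc_rep]

end rep

end Cfsg.Agent.H898.VZ
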